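import Groth.Prelude.Def_PicLoc2
import Groth.Agent.PairHensLib.Flat
import Groth.Agent.PairHensNoethLib.Basic
import Groth.Agent.HenselLib.Criteria
import Mathlib.RingTheory.Finiteness.Basic
import Mathlib.RingTheory.TensorProduct.Finite

/-!
# The rings of a henselized tensor product family
-/

set_option autoImplicit false
set_option backward.isDefEq.respectTransparency false
universe u

open CategoryTheory TensorProduct

noncomputable section

namespace HensFamLib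

variable {k R : Type u} [Field k] [CommRing R] [IsLocalRing R] [Algebra k R] (𝓗 : PicLoc.HensFamily k R)
variable (A A' A'' : Type u) [CommRing A] [Algebra k A] [CommRing A'] [Algebra k A'] [CommRing A''] [Algebra k A'']

/-- The ring at `A`. -/
abbrev Gr : Type u := (𝓗.G.obj (CommAlgCat.of k A)).right

instance algT : Algebra (R ⊗[k] A) (Gr 𝓗 A) := (𝓗.η.app (CommAlgCat.of k A)).right.hom.toAlgebra

instance algR : Algebra R (Gr 𝓗 A) := (𝓗.G.obj (CommAlgCat.of k A)).hom.hom.toAlgebra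

instance tower : IsScalarTower R (R ⊗[k] A) (Gr 𝓗 A) :=
  IsScalarTower.of_algebraMap_eq fun r => (congr($(Under.w (𝓗.η.app (CommAlgCat.of k A))) r)).symm

theorem isHens : Hens2.IsPairHenselization (R ⊗[k] A) (PicLoc.mExt k R A) (Gr 𝓗 A) :=
  𝓗.isHens (CommAlgCat.of k A)

variable {A A' A''}

/-- The transition map. -/
def Gmap (f : A →ₐ[k] A') : Gr 𝓗 A →ₐ[R] Gr 𝓗 A' where
  toRingHom := (𝓗.G.map (CommAlgCat.ofHom f)).right.hom
  commutes' r := congr($(Under.w (𝓗.G.map (CommAlgCat.ofHom f))) r)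

theorem Gmap_algebraMap (f : A →ₐ[k] A') (z : R ⊗[k] A) :
    Gmap 𝓗 f (algebraMap (R ⊗[k] A) (Gr 𝓗 A) z) =
      algebraMap (R ⊗[k] A') (Gr 𝓗 A') (Algebra.TensorProduct.map (AlgHom.id R R) f z) := by
  have := congrArg (fun φ => φ.right) (𝓗.η.naturality (CommAlgCat.ofHom f))
  exact (congr($this z)).symm

theorem Gmap_comp (f : A →ₐ[k] A') (g : A' →ₐ[k] A'') (x : Gr 𝓗 A) :
    Gmap 𝓗 g (Gmap 𝓗 f x) = Gmap 𝓗 (g.comp f) x := by
  have := congrArg (fun φ => φ.right) (𝓗.G.map_comp (CommAlgCat.ofHom f) (CommAlgCat.ofHom g))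
  exact (congr($this x)).symm

theorem map_mExt (f : A →ₐ[k] A') :
    ((PicLoc.mExt k R A).map (algebraMap (R ⊗[k] A) (Gr 𝓗 A))).map (Gmap 𝓗 f).toRingHom =
      (PicLoc.mExt k R A').map (algebraMap (R ⊗[k] A') (Gr 𝓗 A')) := by
  simp only [PicLoc.mExt, Ideal.map_map]
  congr 1
  refine RingHom.ext fun r => ?_
  show Gmap 𝓗 f (algebraMap (R ⊗[k] A) (Gr 𝓗 A) (r ⊗ₜ 1)) = algebraMap (R ⊗[k] A') (Gr 𝓗 A') (r ⊗ₜ 1)
  rw [Gmap_algebraMap]
  simp

theorem flat : Module.Flat R (Gr 𝓗 A) := by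
  haveI : Module.Flat (R ⊗[k] A) (Gr 𝓗 A) := PairHensLib.flat_of_isPairHenselization (isHens 𝓗 A)
  exact Module.Flat.trans R (R ⊗[k] A) _

theorem isNoetherianRing [IsNoetherianRing R] [Algebra.FiniteType k A] : IsNoetherianRing (Gr 𝓗 A) := by
  haveI : IsNoetherianRing (R ⊗[k] A) := Algebra.FiniteType.isNoetherianRing R (R ⊗[k] A)
  exact PairHensNoethLib.isNoetherianRing_henselization (isHens 𝓗 A)

theorem mExt_le_jacobson :
    (IsLocalRing.maximalIdeal R).map (algebraMap R (Gr 𝓗 A)) ≤ Ideal.jacobson ⊥ := by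
  haveI := (isHens 𝓗 A).1
  refine le_trans (le_of_eq ?_) (HenselianRing.jac (I := (PicLoc.mExt k R A).map (algebraMap (R ⊗[k] A) (Gr 𝓗 A))))
  rw [PicLoc.mExt, Ideal.map_map]
  exact congrArg (fun φ : R →+* Gr 𝓗 A => Ideal.map φ _) (IsScalarTower.algebraMap_eq R (R ⊗[k] A) _)

variable (A) in
/-- Elements coming from a finitely generated subalgebra. -/
def fgImages : Subalgebra (R ⊗[k] A) (Gr 𝓗 A) where
  carrier := {x | ∃ S : Subalgebra k A, S.FG ∧ x ∈ Set.range (Gmap 𝓗 S.val)}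
  algebraMap_mem' z := by
    induction z using TensorProduct.induction_on with
    | zero => exact ⟨⊥, Subalgebra.fg_bot, 0, by simp⟩
    | tmul r a =>
      refine ⟨Algebra.adjoin k {a}, ⟨{a}, by simp⟩,
        algebraMap (R ⊗[k] Algebra.adjoin k {a}) _ (r ⊗ₜ ⟨a, Algebra.subset_adjoin rfl⟩), ?_⟩
      rw [Gmap_algebraMap]
      rfl
    | add x y hx hy =>
      obtain ⟨S, hS, a, ha⟩ := hx
      obtain ⟨T, hT, b, hb⟩ := hy
      refine ⟨S ⊔ T, hS.sup hT, Gmap 𝓗 (Subalgebra.inclusion le_sup_left) a + Gmap 𝓗 (Subalgebra.inclusion le_sup_right) b, ?_⟩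
      rw [map_add, map_add, Gmap_comp, Gmap_comp, Subalgebra.val_comp_inclusion, Subalgebra.val_comp_inclusion, ha, hb]
  add_mem' {x y} hx hy := by
    obtain ⟨S, hS, a, ha⟩ := hx
    obtain ⟨T, hT, b, hb⟩ := hy
    refine ⟨S ⊔ T, hS.sup hT, Gmap 𝓗 (Subalgebra.inclusion le_sup_left) a + Gmap 𝓗 (Subalgebra.inclusion le_sup_right) b, ?_⟩
    rw [map_add, Gmap_comp, Gmap_comp, Subalgebra.val_comp_inclusion, Subalgebra.val_comp_inclusion, ha, hb]
  mul_mem' {x y} hx hy := by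
    obtain ⟨S, hS, a, ha⟩ := hx
    obtain ⟨T, hT, b, hb⟩ := hy
    refine ⟨S ⊔ T, hS.sup hT, Gmap 𝓗 (Subalgebra.inclusion le_sup_left) a * Gmap 𝓗 (Subalgebra.inclusion le_sup_right) b, ?_⟩
    rw [map_mul, Gmap_comp, Gmap_comp, Subalgebra.val_comp_inclusion, Subalgebra.val_comp_inclusion, ha, hb]

theorem exists_common_stage {κ : Type*} (s : Finset κ) (x : κ → Gr 𝓗 A) (hx : ∀ i ∈ s, x i ∈ fgImages 𝓗 A) :
    ∃ S : Subalgebra k A, S.FG ∧ ∀ i ∈ s, x i ∈ Set.range (Gmap 𝓗 S.val) := by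
  classical
  induction s using Finset.induction_on with
  | empty => exact ⟨⊥, Subalgebra.fg_bot, by simp⟩
  | @insert a s _ ih =>
    obtain ⟨S, hS, hs⟩ := ih fun i hi => hx i (Finset.mem_insert_of_mem hi)
    obtain ⟨T, hT, b, hb⟩ := hx a (Finset.mem_insert_self a s)
    refine ⟨S ⊔ T, hS.sup hT, fun i hi => ?_⟩
    rcases Finset.mem_insert.1 hi with rfl | hi
    · exact ⟨Gmap 𝓗 (Subalgebra.inclusion le_sup_right) b, by rw [Gmap_comp, Subalgebra.val_comp_inclusion, hb]⟩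
    · obtain ⟨c, hc⟩ := hs i hi
      exact ⟨Gmap 𝓗 (Subalgebra.inclusion le_sup_left) c, by rw [Gmap_comp, Subalgebra.val_comp_inclusion, hc]⟩

open Polynomial in
theorem fgImages_eq_top : fgImages 𝓗 A = ⊤ := by
  classical
  let F := fgImages 𝓗 A
  let I := PicLoc.mExt k R A
  let J : Ideal F := I.map (algebraMap (R ⊗[k] A) F)
  haveI := (isHens 𝓗 A).1
  have hJF : ∀ z : F, z ∈ J → (z : Gr 𝓗 A) ∈ I.map (algebraMap (R ⊗[k] A) (Gr 𝓗 A)) := fun z hz => by
    have := Ideal.mem_map_of_mem (F.val : F →+* Gr 𝓗 A) hz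
    rwa [Ideal.map_map, F.val.comp_algebraMap] at this
  -- elements of `J` come from the ideal of a stage
  have hst : ∀ z : F, z ∈ J → ∃ S : Subalgebra k A, S.FG ∧
      (z : Gr 𝓗 A) ∈ Gmap 𝓗 S.val '' ((PicLoc.mExt k R S).map (algebraMap (R ⊗[k] S) (Gr 𝓗 S))) := by
    intro z hz
    simp only [J, I, PicLoc.mExt, Ideal.map_map] at hz
    induction hz using Submodule.span_induction with
    | mem y hy =>
      obtain ⟨r, hr, rfl⟩ := hy
      refine ⟨⊥, Subalgebra.fg_bot, algebraMap (R ⊗[k] (⊥ : Subalgebra k A)) _ (r ⊗ₜ 1), ?_, ?_⟩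
      · exact Ideal.mem_map_of_mem _ (Ideal.mem_map_of_mem _ hr)
      · rw [Gmap_algebraMap]
        simp only [Algebra.TensorProduct.map_tmul, AlgHom.coe_id, id_eq, map_one]
        rfl
    | zero => exact ⟨⊥, Subalgebra.fg_bot, 0, zero_mem _, by simp⟩
    | add x y _ _ hx hy =>
      obtain ⟨S, hS, a, ha, hax⟩ := hx
      obtain ⟨T, hT, b, hb, hby⟩ := hy
      refine ⟨S ⊔ T, hS.sup hT, Gmap 𝓗 (Subalgebra.inclusion le_sup_left) a + Gmap 𝓗 (Subalgebra.inclusion le_sup_right) b,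
        ?_, ?_⟩
      · refine add_mem ?_ ?_
        · rw [← map_mExt 𝓗 (Subalgebra.inclusion (le_sup_left : S ≤ S ⊔ T))]
          exact Ideal.mem_map_of_mem _ ha
        · rw [← map_mExt 𝓗 (Subalgebra.inclusion (le_sup_right : T ≤ S ⊔ T))]
          exact Ideal.mem_map_of_mem _ hb
      · rw [map_add, Gmap_comp, Gmap_comp, Subalgebra.val_comp_inclusion, Subalgebra.val_comp_inclusion, hax, hby]
        rfl
    | smul c x _ hx =>
      obtain ⟨S, hS, a, ha, hax⟩ := hx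
      obtain ⟨T, hT, b, hb⟩ := c.2
      refine ⟨S ⊔ T, hS.sup hT, Gmap 𝓗 (Subalgebra.inclusion le_sup_right) b * Gmap 𝓗 (Subalgebra.inclusion le_sup_left) a,
        ?_, ?_⟩
      · refine Ideal.mul_mem_left _ _ ?_
        rw [← map_mExt 𝓗 (Subalgebra.inclusion (le_sup_left : S ≤ S ⊔ T))]
        exact Ideal.mem_map_of_mem _ ha
      · rw [map_mul, Gmap_comp, Gmap_comp, Subalgebra.val_comp_inclusion, Subalgebra.val_comp_inclusion, hax, hb]
        rfl
  haveI hF : HenselianRing F J := by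
    refine HenselLib.henselianRing_of_gabberRoots (fun z hz => ?_) fun n hn p hp hc => ?_
    · rw [Ideal.mem_jacobson_bot]
      intro y
      obtain ⟨S, hS, a, ha, hax⟩ := hst z hz
      obtain ⟨T, hT, b, hb⟩ := y.2
      let a' := Gmap 𝓗 (Subalgebra.inclusion (le_sup_left : S ≤ S ⊔ T)) a
      let b' := Gmap 𝓗 (Subalgebra.inclusion (le_sup_right : T ≤ S ⊔ T)) b
      have ha' : a' ∈ (PicLoc.mExt k R ↥(S ⊔ T)).map (algebraMap _ (Gr 𝓗 ↥(S ⊔ T))) := by
        rw [← map_mExt 𝓗 (Subalgebra.inclusion (le_sup_left : S ≤ S ⊔ T))]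
        exact Ideal.mem_map_of_mem _ ha
      haveI := (isHens 𝓗 ↥(S ⊔ T)).1
      obtain ⟨c, hc⟩ := isUnit_iff_exists_inv.1 (Ideal.mem_jacobson_bot.1 (HenselianRing.jac ha') b')
      refine isUnit_iff_exists_inv.2 ⟨⟨Gmap 𝓗 (S ⊔ T).val c, S ⊔ T, hS.sup hT, c, rfl⟩, Subtype.ext ?_⟩
      show ((z : Gr 𝓗 A) * y + 1) * Gmap 𝓗 (S ⊔ T).val c = 1
      rw [← hax, ← hb]
      have := congrArg (Gmap 𝓗 (S ⊔ T).val) hc
      simpa [a', b', Gmap_comp, Subalgebra.val_comp_inclusion] using this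
    · choose S hS a ha hax using fun i => hst _ (hc i)
      let U : Subalgebra k A := (Finset.range (n + 1)).sup S
      have hU : U.FG := Finset.sup_induction Subalgebra.fg_bot (fun _ h _ h' => h.sup h') fun i _ => hS i
      have hle : ∀ i ∈ Finset.range (n + 1), S i ≤ U := fun i hi => Finset.le_sup hi
      let P : (Gr 𝓗 U)[X] := ∑ i ∈ (Finset.range (n + 1)).attach,
        monomial i.1 (Gmap 𝓗 (Subalgebra.inclusion (hle i.1 i.2)) (a i.1))
      have hPn : P.natDegree ≤ n := natDegree_sum_le_of_forall_le _ _ fun i _ =>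
        (natDegree_monomial_le _).trans (Nat.lt_succ_iff.1 (Finset.mem_range.1 i.2))
      haveI := (isHens 𝓗 U).1
      obtain ⟨α, hα, hroot⟩ := HenselLib.gabberRoots_of_henselianRing
        (I := (PicLoc.mExt k R U).map (algebraMap (R ⊗[k] U) (Gr 𝓗 U))) n hn P hPn fun m => by
          simp only [P, finset_sum_coeff, coeff_monomial]
          refine sum_mem fun i _ => ?_
          split_ifs
          · rw [← map_mExt 𝓗 (Subalgebra.inclusion (hle i.1 i.2))]
            exact Ideal.mem_map_of_mem _ (ha _)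
          · exact zero_mem _
      let φ : Gr 𝓗 U →+* F :=
        (Gmap 𝓗 U.val).toRingHom.codRestrict F fun x => ⟨U, hU, x, rfl⟩
      have hφm : ∀ x ∈ (PicLoc.mExt k R U).map (algebraMap (R ⊗[k] U) (Gr 𝓗 U)), φ x ∈ J := fun x hx => by
        have := Ideal.mem_map_of_mem φ hx
        simp only [PicLoc.mExt, Ideal.map_map] at this
        simp only [J, I, PicLoc.mExt, Ideal.map_map]
        convert this using 2
        refine RingHom.ext fun r => Subtype.ext ?_
        show algebraMap (R ⊗[k] A) (Gr 𝓗 A) (r ⊗ₜ 1) = Gmap 𝓗 U.val (algebraMap (R ⊗[k] U) (Gr 𝓗 U) (r ⊗ₜ 1))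
        rw [Gmap_algebraMap]
        rfl
      have hPp : P.map φ = p := by
        conv_rhs => rw [p.as_sum_range' (n + 1) (Nat.lt_succ_of_le hp), ← Finset.sum_attach]
        simp only [P, Polynomial.map_sum, map_monomial]
        refine Finset.sum_congr rfl fun i _ => congrArg _ (Subtype.ext ?_)
        show Gmap 𝓗 U.val (Gmap 𝓗 (Subalgebra.inclusion (hle i.1 i.2)) (a i.1)) = _
        rw [Gmap_comp, Subalgebra.val_comp_inclusion]
        exact hax i.1
      refine ⟨φ α, by simpa using hφm _ hα, ?_⟩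
      have := hroot.map (f := φ)
      simpa [Polynomial.map_add, hPp] using this
  obtain ⟨u, hu, -⟩ := (isHens 𝓗 A).2 F J (algebraMap (R ⊗[k] A) F) hF le_rfl
  have hid : (F.val : F →+* Gr 𝓗 A).comp u = RingHom.id _ :=
    ((isHens 𝓗 A).2 _ _ (algebraMap (R ⊗[k] A) (Gr 𝓗 A)) (isHens 𝓗 A).1 le_rfl).unique
      (by rw [RingHom.comp_assoc, hu, F.val.comp_algebraMap]) (RingHom.id_comp _)
  refine top_le_iff.1 fun x _ => ?_
  have := RingHom.congr_fun hid x
  rw [← show ((u x : F) : Gr 𝓗 A) = x from this]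
  exact (u x).2

theorem exists_fg_stage (x : Gr 𝓗 A) : ∃ S : Subalgebra k A, S.FG ∧ x ∈ Set.range (Gmap 𝓗 S.val) :=
  ((fgImages_eq_top 𝓗 (A := A)).symm ▸ Algebra.mem_top : x ∈ fgImages 𝓗 A)

end HensFamLib
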